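import Cfsg.Agent.S1524
import Cfsg.Agent.S1521
import Cfsg.Agent.S1518
import Cfsg.Agent.S1501
import Cfsg.Agent.S1500
import Cfsg.Agent.BGUniq.FittingHall
import Cfsg.Agent.CharDeep.FpfCyclic
import Mathlib.GroupTheory.SpecificGroups.ZGroup
import Mathlib.GroupTheory.SchurZassenhaus

/-!
# Coherence for a maximal subgroup of Frobenius Type I (Peterfalvi (12.6))

The Dade hypothesis for `(typeA L, L, supportR L)` is an explicit argument.
-/

set_option autoImplicit false

namespace Cfsg.Agent.PFTypeOne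

open Coherence

section Transport

variable {L : Type*} [Group L] [Fintype L] {G : Type*} [Group G] [Fintype G]

/-- Coherence only sees the map on the combinations vanishing off the given set. -/
theorem coherent_congr {S : Set (L → ℂ)} {A : Set L} {τ τ' : (L → ℂ) → (G → ℂ)}
    (h : IsCoherent S A τ) (he : ∀ α ∈ zspanOn S A, τ' α = τ α) : IsCoherent S A τ' := by
  obtain ⟨hne, τ₁, hiso, hag⟩ := h
  exact ⟨hne, τ₁, hiso, fun α hα => (hag α hα).trans (he α hα).symm⟩

/-- An integer combination of generalized characters supported on a set is one such. -/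
theorem zspan_gen_supp {S : Set (L → ℂ)} {A : Set L}
    (hgen : ∀ φ ∈ S, IsGeneralizedCharacter L φ) (hsupp : ∀ φ ∈ S, ∀ x ∉ A, φ x = 0)
    {α : L → ℂ} (hα : α ∈ zspan S) :
    IsGeneralizedCharacter L α ∧ ∀ x ∉ A, α x = 0 := by
  refine Submodule.span_induction (p := fun β _ => IsGeneralizedCharacter L β ∧
    ∀ x ∉ A, β x = 0) (fun φ hφ => ⟨hgen φ hφ, hsupp φ hφ⟩) ⟨gen_zero, fun _ _ => rfl⟩ ?_ ?_ hα
  · exact fun a b _ _ ha hb => ⟨gen_add ha.1 hb.1, fun x hx => by simp [ha.2 x hx, hb.2 x hx]⟩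
  · exact fun c a _ ha => ⟨gen_zsmul ha.1 c, fun x hx => by simp [ha.2 x hx]⟩

theorem gen_isClassFunction {α : L → ℂ} (h : IsGeneralizedCharacter L α) :
    IsClassFunction L α := by
  obtain ⟨a, b, ha, hb, hab⟩ := h
  intro g x
  simp only [hab, Pi.sub_apply]
  rw [CharInd.isClassFunction_of_isCharacter ha g x, CharInd.isClassFunction_of_isCharacter hb g x]

end Transport

section DadeMap

variable {G : Type*} [Group G] [Fintype G] {A : Set G} {L : Subgroup G} {R : G → Subgroup G}
variable [Fintype L]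

theorem dade_apply_one (hD : DadeHypothesis A L R) (α : L → ℂ) :
    dadeIsometry A L R α 1 = 0 := by
  unfold dadeIsometry
  rw [dif_neg]
  rintro ⟨a, ha, x, u, hu, he⟩
  have hu' : u = (a : G)⁻¹ := eq_inv_of_mul_eq_one_right (by rw [← he]; group)
  have hm : (a : G) ∈ R (a : G) := by simpa [hu'] using hu
  have h2 : (a : G) ∈ R (a : G) ⊓ (L ⊓ Subgroup.centralizer ({(a : G)} : Set G)) :=
    ⟨hm, a.2, Subgroup.mem_centralizer_singleton_iff.2 rfl⟩
  rw [hD.inf_eq_bot _ ha, Subgroup.mem_bot] at h2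
  exact hD.one_not_mem (h2 ▸ ha)

/-- The Dade map is an isometry on the combinations vanishing at `1`. -/
theorem dade_isometryOn (hD : DadeHypothesis A L R) (S : Set (L → ℂ))
    (hgen : ∀ φ ∈ S, IsGeneralizedCharacter L φ)
    (hsupp : ∀ φ ∈ S, ∀ x : L, x ≠ 1 → (x : G) ∉ A → φ x = 0) :
    IsLinearIsometryOn (zspanOn S {1}ᶜ) (dadeIsometry A L R) ∧
      (∀ α ∈ zspanOn S ({1}ᶜ : Set L), dadeIsometry A L R α 1 = 0) ∧
      ∀ α ∈ zspanOn S ({1}ᶜ : Set L), IsClassFunction L α ∧ ∀ x : L, (x : G) ∉ A → α x = 0 := by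
  have key : ∀ α ∈ zspanOn S ({1}ᶜ : Set L),
      IsGeneralizedCharacter L α ∧ ∀ x : L, (x : G) ∉ A → α x = 0 := by
    intro α hα
    obtain ⟨h1, h2⟩ := zspan_gen_supp (A := {x : L | x = 1 ∨ (x : G) ∈ A}) hgen
      (fun φ hφ x hx => hsupp φ hφ x (fun e => hx (Or.inl e)) (fun e => hx (Or.inr e))) hα.1
    refine ⟨h1, fun x hx => ?_⟩
    by_cases h : x = 1
    · exact h ▸ (mem_zspanOn_one.1 hα).2
    · exact h2 x fun e => e.elim h hx
  refine ⟨⟨?_, ?_, ?_, ?_⟩, fun α _ => dade_apply_one hD α,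
    fun α hα => ⟨gen_isClassFunction (key α hα).1, (key α hα).2⟩⟩
  · intro α _ β _; funext g
    simp only [dadeIsometry, Pi.add_apply]
    split_ifs <;> simp
  · intro α _ n; funext g
    simp only [dadeIsometry, Pi.smul_apply]
    split_ifs <;> simp
  · intro α hα β hβ
    exact (S1500.result A L R hD α (gen_isClassFunction (key α hα).1) (key α hα).2).1 β
      (gen_isClassFunction (key β hβ).1) (key β hβ).2
  · exact fun α hα => S1501.result A L R hD α (key α hα).1 (key α hα).2

/-- With trivial supports the Dade map is induction. -/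
theorem dade_eq_indFun (hD : DadeHypothesis A L R) (hR : ∀ a ∈ A, R a = ⊥) {α : L → ℂ}
    (hα : IsClassFunction L α) (hαA : ∀ x : L, (x : G) ∉ A → α x = 0) :
    dadeIsometry A L R α = indFun L α := by
  have key : ∀ χ : G → ℂ, IsClassFunction G χ →
      classInner (dadeIsometry A L R α) χ = classInner (indFun L α) χ := by
    intro χ hχ
    rw [CharInd.classInner_indFun_left L α hχ]
    refine (S1500.result A L R hD α hα hαA).2 χ _ hχ fun a ha => ?_
    rw [hR _ ha]
    simp
  have h : classInner (dadeIsometry A L R α - indFun L α) (dadeIsometry A L R α - indFun L α) = 0 := by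
    rw [Coherence.inner_sub_left, key, sub_self]
    intro g h
    simp only [Pi.sub_apply, OddChar.isClassFunction_dade hD hα g h,
      CharInd.isClassFunction_indFun L α g h]
  exact sub_eq_zero.1 (inner_self_eq_zero.1 h)

end DadeMap

variable {G : Type*} [Group G] [Fintype G]

theorem subgroupOf_fittingHallOf (L : Subgroup G) : (fittingHallOf L).subgroupOf L = fittingHall L :=
  Subgroup.comap_map_eq_self_of_injective L.subtype_injective _

/-- For Frobenius Type I the set `A(L)` is the set of non-identity elements of `L_F`. -/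
theorem typeA_eq {L : Subgroup G} (hI : IsOfTypeI L)
    (hfrob : ∀ x ∈ fittingHallOf L, x ≠ 1 →
      L ⊓ Subgroup.centralizer ({x} : Set G) ≤ fittingHallOf L) :
    typeA L = (fittingHallOf L : Set G) \ {1} := by
  rw [typeA, if_pos hI]
  ext a
  constructor
  · rintro ⟨ha, ha1, x, hx, hx1, hax⟩
    exact ⟨hfrob x hx hx1 ⟨ha, Subgroup.mem_centralizer_singleton_iff.2 hax⟩, ha1⟩
  · rintro ⟨ha, ha1⟩
    exact ⟨BGUniq.fittingHallOf_le L ha, ha1, a, ha, ha1, rfl⟩

/-- In the TI case the supports are trivial. -/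
theorem supportR_eq_bot {L : Subgroup G} {H : Subgroup G} (hTI : IsTISubset (H : Set G))
    (hN : Subgroup.normalizer (H : Set G) = L) {a : G} (ha : a ∈ (H : Set G) \ {1}) :
    supportR L a = ⊥ := by
  rw [supportR, dif_neg]
  rintro ⟨hne, -⟩
  apply hne
  intro c hc
  by_contra hcL
  rw [← hN] at hcL
  refine ha.2 (hTI c hcL a ha.1 ?_)
  have e : c * a = a * c := Subgroup.mem_centralizer_singleton_iff.1 hc
  rw [show c * a * c⁻¹ = a by rw [e]; group]
  exact ha.1

/-- The index of a Frobenius kernel of odd order divides `p - 1` when the exponent of the quotient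
does. -/
theorem index_dvd_of_exponent {M : Type*} [Group M] [Finite M] (K : Subgroup M) [K.Normal]
    (hodd : Odd (Nat.card M)) (hK1 : K ≠ ⊥) {U : Subgroup M} (hU : K.IsComplement' U)
    (hcop : (Nat.card K).Coprime K.index)
    (hC : ∀ n ∈ K, n ≠ 1 → Subgroup.centralizer ({n} : Set M) ≤ K) :
    Monoid.exponent (M ⧸ K) = K.index := by
  haveI : Nontrivial K := (Subgroup.nontrivial_iff_ne_bot K).2 hK1
  letI : MulDistribMulAction U K :=
    { smul := fun u k => ⟨(u : M) * k * (u : M)⁻¹, Subgroup.Normal.conj_mem inferInstance _ k.2 _⟩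
      one_smul := fun k => Subtype.ext (show (1 : M) * k * (1 : M)⁻¹ = k by simp)
      mul_smul := fun u v k => Subtype.ext
        (show (u : M) * v * k * ((u : M) * v)⁻¹ = u * (v * k * (v : M)⁻¹) * (u : M)⁻¹ by group)
      smul_mul := fun u k l => Subtype.ext
        (show (u : M) * (k * l) * (u : M)⁻¹ = u * k * (u : M)⁻¹ * (u * l * (u : M)⁻¹) by group)
      smul_one := fun u => Subtype.ext (show (u : M) * 1 * (u : M)⁻¹ = 1 by group) }
  have hcard : Nat.card U = K.index := (hU.symm.index_eq_card).symm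
  haveI : IsZGroup U := CharDeep.Zass.isZGroup_of_fpf
    (hodd.of_dvd_nat (Subgroup.card_subgroup_dvd_card U)) (hcard ▸ hcop.symm) fun u hu x hx => by
      by_contra hx1
      have e : (u : M) * x * (u : M)⁻¹ = x := congrArg Subtype.val hx
      have huK : (u : M) ∈ K := hC x x.2 (fun h => hx1 (Subtype.ext h))
        (Subgroup.mem_centralizer_singleton_iff.2 (mul_inv_eq_iff_eq_mul.1 e))
      exact hu (Subtype.ext (Subgroup.disjoint_def.1 hU.disjoint huK u.2))
  let e : U ≃* M ⧸ K := hU.symm.QuotientMulEquiv.symm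
  rw [← Monoid.exponent_eq_of_mulEquiv e, IsZGroup.exponent_eq_card, hcard]

/-- **Peterfalvi (12.6)**, given the Dade hypothesis. -/
theorem coherent (hG : IsMinSimpleOddOrder G) (L : Subgroup G) [Fintype L] (hL : IsCoatom L)
    (hI : IsOfTypeI L)
    (hfrob : ∀ x ∈ fittingHallOf L, x ≠ 1 →
      L ⊓ Subgroup.centralizer ({x} : Set G) ≤ fittingHallOf L)
    (hD : DadeHypothesis (typeA L) L (supportR L)) :
    (∀ χ ∈ inducedIrrAbove (fittingHall L) ⊥, IsIrrCharacter L χ) ∧
      IsCoherent (inducedIrrAbove (fittingHall L) ⊥) {1}ᶜ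
        (dadeIsometry (typeA L) L (supportR L)) := by
  classical
  set K : Subgroup L := fittingHall L with hK
  have hI' : IsOfTypeI L := hI
  obtain ⟨⟨hsolv, hodd, hK1, hKT, U, hU1, hUc, -, -⟩, hcases⟩ := hI
  have hKmem : ∀ x : L, (x : G) ∈ fittingHallOf L ↔ x ∈ K := fun x => by
    rw [← Subgroup.mem_subgroupOf, subgroupOf_fittingHallOf]
  have hC : ∀ n ∈ K, n ≠ 1 → Subgroup.centralizer ({n} : Set L) ≤ K := by
    intro n hn hn1 x hx
    refine (hKmem x).1 (hfrob n ((hKmem n).2 hn) (fun h => hn1 (Subtype.ext h)) ⟨x.2, ?_⟩)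
    exact Subgroup.mem_centralizer_singleton_iff.2
      (congrArg Subtype.val (Subgroup.mem_centralizer_singleton_iff.1 hx))
  have hirr : ∀ χ ∈ inducedIrrAbove K ⊥, IsIrrCharacter L χ := fun χ h => frob_seq_irr K hC h
  refine ⟨hirr, ?_⟩
  haveI hnil : Group.IsNilpotent K := BGUniq.fittingHall_isNilpotent L
  have hsupp : ∀ φ ∈ inducedIrrAbove K ⊥, ∀ x : L, x ≠ 1 → (x : G) ∉ typeA L → φ x = 0 := by
    rintro φ ⟨θ, -, -, -, rfl⟩ x hx1 hxA
    refine OddChar.indFun_eq_zero_of_notMem K θ fun hxK => hxA ?_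
    rw [typeA_eq hI' hfrob]
    exact ⟨(hKmem x).2 hxK, fun h => hx1 (Subtype.ext h)⟩
  obtain ⟨hiso, hone, hcls⟩ := dade_isometryOn hD (inducedIrrAbove K ⊥)
    (fun φ h => irr_gen (hirr φ h)) hsupp
  by_cases hTI : IsTISubset (fittingHallOf L : Set G)
  · have hHL : fittingHallOf L ≤ L := BGUniq.fittingHallOf_le L
    have hHn : ∀ x ∈ L, ∀ h ∈ fittingHallOf L, x * h * x⁻¹ ∈ fittingHallOf L := fun x hx h hh =>
      (hKmem (⟨x, hx⟩ * ⟨h, hHL hh⟩ * ⟨x, hx⟩⁻¹)).2
        ((fittingHall_normal L).conj_mem _ ((hKmem ⟨h, hHL hh⟩).1 hh) _)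
    have hH1 : fittingHallOf L ≠ ⊥ := fun e => hK1 ((Subgroup.map_eq_bot_iff_of_injective _
      L.subtype_injective).1 e)
    have hN : Subgroup.normalizer (fittingHallOf L : Set G) = L := by
      refine (hL.le_iff.1 (Subgroup.le_normalizer_iff.2 hHn)).resolve_left fun e => ?_
      haveI := hG.2.1
      haveI : (fittingHallOf L).Normal := Subgroup.normalizer_eq_top_iff.1 e
      rcases IsSimpleGroup.eq_bot_or_eq_top_of_normal (fittingHallOf L) inferInstance with h | h
      · exact hH1 h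
      · exact hL.1 (top_le_iff.1 (h ▸ hHL))
    have hcoh := S1524.result (fittingHallOf L) L (U.map L.subtype) hodd hHL
      (Subgroup.map_subtype_le U) hH1
      (fun e => hU1 ((Subgroup.map_eq_bot_iff_of_injective _ L.subtype_injective).1 e))
      (Group.nilpotent_of_mulEquiv (K.equivMapOfInjective L.subtype L.subtype_injective)) hHn
      (by rw [fittingHallOf, ← Subgroup.map_inf _ _ _ L.subtype_injective,
            disjoint_iff.1 hUc.disjoint, Subgroup.map_bot])
      (by rw [fittingHallOf, ← Subgroup.map_sup, hUc.sup_eq_top, ← MonoidHom.range_eq_map,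
            Subgroup.range_subtype])
      (by
        rintro _ ⟨w, hw, rfl⟩ hw1 h hh e
        by_contra hh1
        have hwK : w ∈ K := (hKmem w).1 (hfrob h hh hh1
          ⟨w.2, Subgroup.mem_centralizer_singleton_iff.2 e⟩)
        exact hw1 (congrArg Subtype.val (Subgroup.disjoint_def.1 hUc.disjoint hwK hw)))
      hTI hN
    rw [subgroupOf_fittingHallOf, ← hK] at hcoh
    refine coherent_congr hcoh fun α hα => ?_
    exact dade_eq_indFun hD
      (fun a ha => supportR_eq_bot hTI hN (by rwa [typeA_eq hI' hfrob] at ha))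
      (hcls α hα).1 (hcls α hα).2
  obtain ⟨θ₀, hθ₀, -⟩ := exists_linear K (by infer_instance) ⊥ (fun h => hK1 (le_bot_iff.1 h))
  obtain ⟨R, hS⟩ := S1514.result (inducedIrrAbove K ⊥) ⟨_, (mem_seq_iff K).2 ⟨θ₀, hθ₀, rfl⟩⟩
    hirr (fun χ h => ⟨seq_conj K h, frob_seq_conj_ne K hodd hKT hC h⟩) _ hiso hone
  have : ((⊥ : Subgroup L).subgroupOf K).Normal := inferInstance
  refine S1521.result K (by infer_instance) _ R hS hodd ⊥ bot_le
    (Group.nilpotent_of_surjective (QuotientGroup.mk' _) (QuotientGroup.mk'_surjective _))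
    ⁅K, K⁆ (sup_bot_eq _).symm (frob_commutator_lt K hK1) (lt_top_iff_ne_top.2 hKT)
    (fun k hk hkN x hx => frob_quot K hC ⁅K, K⁆ (Subgroup.commutator_le_self K) hk hkN x hx) ?_
  by_cases hpp : ∃ p m : ℕ, p.Prime ∧ (⊥ : Subgroup L).relIndex K = p ^ m
  swap
  · exact Or.inr (Or.inr (Or.inl hpp))
  rcases hcases with h | ⟨hab, -, -⟩ | ⟨hexp, -⟩
  · exact absurd h hTI
  · refine Or.inr (Or.inr (Or.inr (Or.inl ?_)))
    rw [Subgroup.commutator_le]
    intro a ha b hb
    rw [Subgroup.mem_bot, commutatorElement_eq_one_iff_mul_comm]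
    have e := hab.is_comm.comm ⟨(a : G), (hKmem a).2 ha⟩ ⟨(b : G), (hKmem b).2 hb⟩
    exact Subtype.ext (congrArg (fun z : fittingHallOf L => (z : G)) e)
  · refine Or.inr (Or.inr (Or.inr (Or.inr ?_)))
    obtain ⟨p, m, hp, hm⟩ := hpp
    refine ⟨p, m, hp, hm, ?_⟩
    rw [Subgroup.relIndex_bot_left] at hm
    have hm0 : m ≠ 0 := fun h0 => hK1 (Subgroup.eq_bot_of_card_eq K (by rw [hm, h0, pow_zero]))
    rw [← index_dvd_of_exponent K hodd hK1 hUc (BGUniq.fittingHall_coprime L) hC]
    exact hexp p hp (by rw [BGUniq.card_fittingHallOf, ← hK, hm]; exact dvd_pow_self p hm0)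

end Cfsg.Agent.PFTypeOne
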